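import Cfsg.Agent.BlockChar.Parity
import Cfsg.Agent.BlockChar.DegreeSum
import Cfsg.Agent.BlockChar.Support
import Cfsg.Agent.Char.Galois
import Mathlib.GroupTheory.Perm.Cycle.Type
import Mathlib.FieldTheory.Finite.Basic

/-!
# Principal block characters fixed by the map cubing 2-elements

For a natural number `k` with `g ^ k = g ^ 3` on 2-elements and `g ^ k = g` on elements of odd
order, every `±1`-valued linear character of a Sylow 2-subgroup occurs with odd multiplicity in
some odd degree member of the principal 2-block fixed by `g ↦ g ^ k`.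
-/

namespace Cfsg.Agent.GalSigma

open scoped ComplexConjugate
open Cfsg

universe u

variable {G : Type u} [Group G] [Finite G] {k : ℕ}

theorem coprime_card (hk₁ : ∀ g : G, (∃ j : ℕ, orderOf g = 2 ^ j) → g ^ k = g ^ 3)
    (hk₂ : ∀ g : G, Odd (orderOf g) → g ^ k = g) : k.Coprime (Nat.card G) := by
  refine Nat.coprime_of_dvd fun r hr hrk hrG => ?_
  have := Fact.mk hr
  obtain ⟨g, hg⟩ := exists_prime_orderOf_dvd_card' (G := G) r hrG
  have h1 : g ^ k = 1 := by rw [← orderOf_dvd_iff_pow_eq_one, hg]; exact hrk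
  rcases eq_or_ne r 2 with rfl | hr2
  · rw [hk₁ g ⟨1, by simpa using hg⟩, ← orderOf_dvd_iff_pow_eq_one, hg] at h1
    exact absurd h1 (by decide)
  · rw [hk₂ g (hg ▸ hr.odd_of_ne_two hr2)] at h1
    rw [h1, orderOf_one] at hg
    exact hr.one_lt.ne hg

theorem pow_period (hk₁ : ∀ g : G, (∃ j : ℕ, orderOf g = 2 ^ j) → g ^ k = g ^ 3)
    (hk₂ : ∀ g : G, Odd (orderOf g) → g ^ k = g) (g : G) :
    g ^ (k ^ 2 ^ (Nat.card G).factorization 2) = g := by
  have := Fact.mk Nat.prime_two
  set a := (Nat.card G).factorization 2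
  set u := Agent.Blocks.pPartOf 2 g
  set s := Agent.Blocks.pPrimePartOf 2 g
  have hs : Odd (orderOf s) := Nat.odd_iff.2 (Nat.two_dvd_ne_zero.1
    (Agent.Blocks.not_dvd_orderOf_pPrimePartOf Nat.prime_two g))
  have hs' : ∀ j : ℕ, s ^ (k ^ j) = s := fun j => by
    induction j with
    | zero => simp
    | succ j ih => rw [pow_succ, pow_mul, ih, hk₂ s hs]
  obtain ⟨e, he⟩ := Agent.Blocks.orderOf_pPartOf Nat.prime_two g
  have hu' : ∀ j : ℕ, u ^ (k ^ j) = u ^ (3 ^ j) := fun j => by
    induction j with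
    | zero => simp
    | succ j ih =>
      have hord : ∃ i, orderOf (u ^ 3 ^ j) = 2 ^ i := by
        obtain ⟨i, -, hi⟩ := (Nat.dvd_prime_pow Nat.prime_two).1
          (show orderOf (u ^ 3 ^ j) ∣ 2 ^ e by rw [← he]; exact orderOf_pow_dvd (x := u) (3 ^ j))
        exact ⟨i, hi⟩
      rw [pow_succ, pow_mul, ih, hk₁ _ hord, ← pow_mul, ← pow_succ]
  have hu : u ^ (3 ^ 2 ^ a) = u := by
    conv_rhs => rw [← pow_one u]
    refine pow_eq_pow_iff_modEq.2 ?_
    show 3 ^ 2 ^ a ≡ 1 [MOD orderOf u]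
    rw [he]
    have hea : e ≤ a := by
      have h := Nat.factorization_le_iff_dvd (orderOf_pos u).ne' (Nat.card_pos (α := G)).ne'
      have := h.2 (orderOf_dvd_natCard u) 2
      rwa [he, Nat.Prime.factorization_pow Nat.prime_two, Finsupp.single_eq_same] at this
    have h3 := Nat.ModEq.pow_totient (x := 3) (n := 2 ^ e)
      ((by decide : Nat.Coprime 3 2).pow_right e)
    obtain ⟨c, hc⟩ : (2 ^ e).totient ∣ 2 ^ a := by
      rcases Nat.eq_zero_or_pos e with h0 | h0
      · simp [h0]
      · rw [Nat.totient_prime_pow Nat.prime_two h0]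
        simpa using Nat.pow_dvd_pow 2 (show e - 1 ≤ a by omega)
    rw [hc, pow_mul]
    simpa using h3.pow c
  have hus : u * s = g := Agent.Blocks.pPartOf_mul_pPrimePartOf Nat.prime_two g
  conv_lhs => rw [← hus]
  rw [(Agent.Blocks.commute_pPartOf_pPrimePartOf g).mul_pow, hs', hu', hu, hus]

/-- `g ↦ g ^ k` permutes the principal block. -/
theorem comp_pow_mem_principalBlock {M : Ideal Cfsg.AlgInt} (hM : Cfsg.IsPModular 2 M)
    (hk₁ : ∀ g : G, (∃ j : ℕ, orderOf g = 2 ^ j) → g ^ k = g ^ 3)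
    (hk₂ : ∀ g : G, Odd (orderOf g) → g ^ k = g) (χ : IrrCharacter G)
    (hχ : χ ∈ principalBlock M G) :
    (⟨fun g => (χ : G → ℂ) (g ^ k),
      Agent.Char.isIrr_comp_pow k (coprime_card hk₁ hk₂) χ.2⟩ : IrrCharacter G) ∈
      principalBlock M G := by
  have := Fintype.ofFinite G
  have hB : Cfsg.IsPBlock M (principalBlock M G) := Agent.Blocks.isPBlock_principalBlock M
  have hcent : ∀ g : G, (Subgroup.centralizer ({g ^ k} : Set G)).index =
      (Subgroup.centralizer ({g} : Set G)).index := fun g => by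
    have hkj : (k ^ (2 ^ (Nat.card G).factorization 2 - 1)) * k =
        k ^ 2 ^ (Nat.card G).factorization 2 := by
      rw [← pow_succ, Nat.sub_add_cancel Nat.one_le_two_pow]
    congr 1
    ext x
    simp only [Subgroup.mem_centralizer_iff, Set.mem_singleton_iff, forall_eq]
    refine ⟨fun h => ?_, fun h => (show Commute g x from h).pow_left k⟩
    have := (show Commute (g ^ k) x from h).pow_left
      (k ^ (2 ^ (Nat.card G).factorization 2 - 1))
    rwa [← pow_mul, Nat.mul_comm, hkj, pow_period hk₁ hk₂] at this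
  intro g
  have h := (Agent.Blocks.IsPBlock.sameBlock hM hB
    (Agent.Blocks.triv_mem_principalBlock hM) hχ) (g ^ k)
  simpa [Cfsg.centralChar, Agent.Blocks.triv, hcent] using h

/-- The sum of the squared degrees of the principal `2`-block has exponent of `2` exactly that
of the group order. -/
theorem degree_sq_sum {M : Ideal Cfsg.AlgInt} (hM : Cfsg.IsPModular 2 M) :
    2 ^ (Nat.card G).factorization 2 ∣
      Agent.BlockChar.bsum (principalBlock M G) (fun χ => charDegree (χ : G → ℂ) ^ 2) ∧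
    ¬ 2 ^ ((Nat.card G).factorization 2 + 1) ∣
      Agent.BlockChar.bsum (principalBlock M G) (fun χ => charDegree (χ : G → ℂ) ^ 2) := by
  classical
  have := Fintype.ofFinite G
  have := Fact.mk hM.1
  set B := principalBlock M G with hBdef
  have hB : Cfsg.IsPBlock M B := Agent.Blocks.isPBlock_principalBlock M
  have hmin : Agent.BlockChar.minVal 2 B = 0 := by
    have h := Agent.BlockChar.minVal_le (p := 2) (B := B)
      (Agent.Blocks.triv_mem_principalBlock (G := G) hM)
    simpa [Cfsg.charDegree, Agent.Blocks.triv] using h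
  obtain ⟨h1, h2⟩ := Agent.BlockChar.redDeg_sq_sum hM hB
  have hcast : Agent.BlockChar.bsum B (fun χ => (Agent.BlockChar.redDeg 2 B χ : ℤ) ^ 2) =
      ((Agent.BlockChar.bsum B (fun χ => charDegree (χ : G → ℂ) ^ 2) : ℕ) : ℤ) := by
    simp only [Agent.BlockChar.bsum, Nat.cast_sum, Agent.BlockChar.redDeg, hmin, pow_zero,
      Nat.div_one]
    exact Finset.sum_congr rfl fun χ _ => by split_ifs <;> simp
  rw [hcast, Agent.BlockChar.blockDefect_eq, hmin, Nat.sub_zero, ← Nat.cast_pow,
    Int.natCast_dvd_natCast] at h1 h2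
  exact ⟨h1, h2⟩

/-- Every `±1`-valued linear character of a Sylow `2`-subgroup occurs with odd multiplicity in
an odd degree member of the principal block fixed by `g ↦ g ^ k`. -/
theorem exists_fixed {M : Ideal Cfsg.AlgInt} (hM : Cfsg.IsPModular 2 M)
    (hk₁ : ∀ g : G, (∃ j : ℕ, orderOf g = 2 ^ j) → g ^ k = g ^ 3)
    (hk₂ : ∀ g : G, Odd (orderOf g) → g ^ k = g) (P : Sylow 2 G)
    [Fintype (P : Subgroup G)] (lam : (P : Subgroup G) →* ℂˣ) (hl : ∀ v, lam v ^ 2 = 1) :
    ∃ χ ∈ principalBlock M G, Odd (charDegree (χ : G → ℂ)) ∧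
      (∀ g : G, (χ : G → ℂ) (g ^ k) = (χ : G → ℂ) g) ∧
      ∃ m : ℕ, Odd m ∧ classInner (fun v : (P : Subgroup G) => (χ : G → ℂ) v)
        (fun v => (lam v : ℂ)) = m := by
  classical
  have := Fintype.ofFinite G
  have := Fact.mk hM.1
  set B := principalBlock M G with hBdef
  have hB : Cfsg.IsPBlock M B := Agent.Blocks.isPBlock_principalBlock M
  have hk := coprime_card hk₁ hk₂
  let a := (Nat.card G).factorization 2
  have hcardP : Nat.card (P : Subgroup G) = 2 ^ a := P.card_eq_multiplicity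
  have hmex : ∀ χ : IrrCharacter G, ∃ m : ℕ,
      classInner (fun v : (P : Subgroup G) => (χ : G → ℂ) v) (fun v => (lam v : ℂ)) = m :=
    fun χ => Agent.Char.classInner_isCharacter_eq_natCast
      (Agent.Char.isCharacter_res _ (Agent.Char.IsIrr.isCharacter χ.2))
      (Agent.Char.isCharacter_hom lam)
  choose m hm using hmex
  -- the sum of degree times multiplicity over the block
  have hT : 2 ^ a * Agent.BlockChar.bsum B (fun χ => charDegree (χ : G → ℂ) * m χ) =
      Agent.BlockChar.bsum B (fun χ => charDegree (χ : G → ℂ) ^ 2) := by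
    apply Nat.cast_injective (R := ℂ)
    simp only [Agent.BlockChar.bsum, Nat.cast_mul, Nat.cast_pow, Nat.cast_sum, Nat.cast_ite,
      Nat.cast_zero, Nat.cast_ofNat, ← hm]
    have hP0 : (Nat.card (P : Subgroup G) : ℂ) ≠ 0 := Nat.cast_ne_zero.2 Nat.card_pos.ne'
    have hP2 : (Nat.card (P : Subgroup G) : ℂ) = 2 ^ a := by rw [hcardP]; simp
    rw [← hP2]
    have hstep : ∀ v : (P : Subgroup G),
        (∑ χ : IrrCharacter G, if χ ∈ B then (χ : G → ℂ) 1 * (χ : G → ℂ) v else 0) *
          conj (lam v : ℂ) =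
        if v = 1 then ∑ χ : IrrCharacter G,
          (if χ ∈ B then (charDegree (χ : G → ℂ) : ℂ) ^ 2 else 0) else 0 := fun v => by
      split_ifs with hv
      · subst hv
        simp [(Agent.CharArith.irr_degree_spec _).1, sq]
      · have hsing : ¬ Cfsg.IsPRegular 2 (v : G) := fun h => hv (by
          obtain ⟨e, he⟩ := IsPGroup.iff_orderOf.1 P.2 v
          have he0 : e = 0 := by
            by_contra h0
            exact h (by rw [Subgroup.orderOf_coe, he]; exact dvd_pow_self 2 h0)
          rwa [he0, pow_zero, orderOf_eq_one_iff] at he)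
        rw [Agent.BlockChar.sum_block_degree_mul_eq_zero hM hB hsing, zero_mul]
    have hsum := Finset.sum_congr rfl (fun v (_ : v ∈ Finset.univ) => hstep v)
    rw [Finset.sum_ite_eq' Finset.univ (1 : (P : Subgroup G)),
      if_pos (Finset.mem_univ _)] at hsum
    rw [← hsum, Finset.mul_sum]
    simp only [classInner, Finset.sum_mul]
    rw [Finset.sum_comm (t := (Finset.univ : Finset (IrrCharacter G)))
      (s := (Finset.univ : Finset (P : Subgroup G)))]
    refine Finset.sum_congr rfl fun χ _ => ?_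
    split_ifs
    · rw [← (Agent.CharArith.irr_degree_spec χ).1, mul_left_comm, ← mul_assoc,
        ← mul_assoc, mul_comm ((χ : G → ℂ) 1), mul_assoc ((Nat.card (P : Subgroup G) : ℂ))]
      rw [mul_comm ((χ : G → ℂ) 1), ← mul_assoc, mul_inv_cancel₀ hP0, one_mul, Finset.mul_sum]
      exact Finset.sum_congr rfl fun v _ => by ring
    · simp
  have hodd : Odd (Agent.BlockChar.bsum B (fun χ => charDegree (χ : G → ℂ) * m χ)) := by
    refine Nat.not_even_iff_odd.1 fun he => (degree_sq_sum (G := G) hM).2 ?_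
    rw [← hT, pow_succ]
    exact Nat.mul_dvd_mul_left _ (even_iff_two_dvd.1 he)
  -- the permutation
  let σ₀ : IrrCharacter G → IrrCharacter G :=
    fun χ => ⟨fun g => (χ : G → ℂ) (g ^ k), Agent.Char.isIrr_comp_pow k hk χ.2⟩
  have hdeg : ∀ χ : IrrCharacter G,
      charDegree (σ₀ χ : G → ℂ) = charDegree (χ : G → ℂ) := fun χ => by
    simp [Cfsg.charDegree, σ₀]
  have hmσ : ∀ χ : IrrCharacter G, m (σ₀ χ) = m χ := fun χ => by
    have hkP : k.Coprime (Nat.card (P : Subgroup G)) :=
      hk.coprime_dvd_right (Subgroup.card_subgroup_dvd_card _)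
    have hkP' : (Nat.card (P : Subgroup G)).Coprime k := hkP.symm
    apply Nat.cast_injective (R := ℂ)
    rw [← hm, ← hm]
    simp only [classInner]
    congr 1
    refine Fintype.sum_equiv (powCoprime hkP') _ _ fun v => ?_
    have hlv : lam (v ^ k) = lam v := by
      obtain ⟨e, he⟩ := IsPGroup.iff_orderOf.1 P.2 v
      have hvk : v ^ k = v ^ 3 := Subtype.ext (by
        simpa using hk₁ (v : G) ⟨e, by rw [Subgroup.orderOf_coe, he]⟩)
      rw [hvk, map_pow, pow_succ, hl v, one_mul]
    show _ = (χ : G → ℂ) ((v ^ k : (P : Subgroup G)) : G) * conj (lam (v ^ k) : ℂ)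
    rw [hlv, SubgroupClass.coe_pow]
  let S := {χ : IrrCharacter G // χ ∈ B ∧ Odd (charDegree (χ : G → ℂ) * m χ)}
  let σf : S → S := fun χ => ⟨σ₀ χ.1, comp_pow_mem_principalBlock hM hk₁ hk₂ _ χ.2.1,
    by rw [hdeg, hmσ]; exact χ.2.2⟩
  have hiter : ∀ (j : ℕ) (χ : S) (g : G),
      ((σf^[j] χ).1 : G → ℂ) g = (χ.1 : G → ℂ) (g ^ k ^ j) := by
    intro j
    induction j with
    | zero => intro χ g; simp
    | succ j ih =>
      intro χ g
      rw [Function.iterate_succ_apply, ih]
      show (χ.1 : G → ℂ) ((g ^ k ^ j) ^ k) = _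
      rw [← pow_mul, ← pow_succ]
  have hid : σf^[2 ^ a] = id := funext fun χ => Subtype.ext (Subtype.ext (funext fun g => by
    rw [hiter, pow_period hk₁ hk₂]; rfl))
  have hbij : Function.Bijective σf := by
    refine ⟨fun x y hxy => ?_, fun y => ⟨σf^[2 ^ a - 1] y, ?_⟩⟩
    · have : σf^[2 ^ a - 1 + 1] x = σf^[2 ^ a - 1 + 1] y := by
        rw [Function.iterate_succ_apply, Function.iterate_succ_apply, hxy]
      rwa [Nat.sub_add_cancel Nat.one_le_two_pow, hid] at this
    · rw [← Function.iterate_succ_apply' σf, Nat.succ_eq_add_one,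
        Nat.sub_add_cancel Nat.one_le_two_pow, hid]
      rfl
  let π : Equiv.Perm S := Equiv.ofBijective σf hbij
  have hπ : π ^ 2 ^ a = 1 := Equiv.ext fun x => by
    rw [← Equiv.Perm.iterate_eq_pow]
    show σf^[2 ^ a] x = x
    rw [hid]; rfl
  have hfix := Equiv.Perm.card_compl_support_modEq hπ
  have hS : Odd (Fintype.card S) := by
    rw [← ZMod.natCast_eq_one_iff_odd] at hodd ⊢
    rw [← hodd, Fintype.card_subtype, Finset.card_filter, Agent.BlockChar.bsum, Nat.cast_sum,
      Nat.cast_sum]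
    refine Finset.sum_congr rfl fun χ _ => ?_
    by_cases h : χ ∈ B
    · rcases Nat.even_or_odd (charDegree (χ : G → ℂ) * m χ) with ho | ho
      · rw [if_pos h, if_neg fun hh => (Nat.not_odd_iff_even.2 ho) hh.2,
          ZMod.natCast_eq_zero_iff_even.2 ho]
        simp
      · rw [if_pos h, if_pos ⟨h, ho⟩, ZMod.natCast_eq_one_iff_odd.2 ho]
        simp
    · rw [if_neg h, if_neg fun hh => h hh.1]
  have hne : π.supportᶜ.Nonempty := by
    rw [← Finset.card_pos]
    refine Nat.pos_of_ne_zero fun h0 => ?_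
    rw [h0] at hfix
    exact Nat.not_even_iff_odd.2 hS (Nat.even_iff.2 (Eq.trans hfix.symm rfl))
  obtain ⟨x, hx⟩ := hne
  rw [Finset.mem_compl, Equiv.Perm.notMem_support] at hx
  exact ⟨x.1, x.2.1, (Nat.odd_mul.1 x.2.2).1,
    fun g => congrFun (congrArg (fun y : S => (y.1 : G → ℂ)) hx) g,
    m x.1, (Nat.odd_mul.1 x.2.2).2, hm _⟩

end Cfsg.Agent.GalSigma
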